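import Groth.Agent.DCohShriek.DualizingMain
import Groth.Agent.DualCx.FiniteMapApps

/-!
Charts of the adjoint of a normalized dualizing complex of a local ring.
-/

set_option autoImplicit false
set_option maxHeartbeats 1000000
set_option backward.isDefEq.respectTransparency false
set_option backward.isDefEq.respectTransparency.types false
set_option linter.style.haveILetI false
set_option linter.unusedSectionVars false

universe u

open CategoryTheory Limits AlgebraicGeometry

attribute [local instance] HasDerivedCategory.standard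

noncomputable section

namespace Groth.Agent.DualLocal

open Groth.Agent.DQCoh (RD rdComp rdCongr)
open Groth.Agent.PerfGen
open Groth.Agent.DCohShriek
open Groth.Agent.DualCx (locD lBaseChangeObjIso isDualizing_of_iso)

variable {X : Scheme.{u}}

/-- the chart at a closed point over a local base with a normalized dualizing complex -/
theorem exists_chart_closed_local {A : Type u} [CommRing A] [IsLocalRing A] [IsNoetherianRing A] {ω : Dual.D A}
    (hω : Dual.IsDualizing A ω) (hn : Dual.IsNormalized A ω) (f : X ⟶ Spec (CommRingCat.of A)) [IsProper f]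
    [DCoh.HasRpush f] {hf : DCoh.RpushPreservesQCoh f}
    {a : DCoh.DQCoh (Spec (CommRingCat.of A)) ⥤ DCoh.DQCoh X} (adj : DCoh.RpushQ f hf ⊣ a)
    (K : DCoh.DQCoh (Spec (CommRingCat.of A))) (eω : K.obj ≅ (DCoh.tildeD (CommRingCat.of A)).obj ω)
    (hK : Dual2.IsDualizingSch (Spec (CommRingCat.of A)) K.obj) (x : X) (hx : IsClosed ({x} : Set X)) :
    ∃ (B : Type u) (_ : CommRing B) (k : Spec (CommRingCat.of B) ⟶ X) (_ : IsOpenImmersion k) (ν : Dual.D B)
      (m : Ideal B) (hm : m.IsMaximal), IsNoetherianRing B ∧ k ⟨m, hm.isPrime⟩ = x ∧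
        Nonempty ((RD k).obj (a.obj K).obj ≅ (DCoh.tildeD (CommRingCat.of B)).obj ν) ∧
          Dual.IsDualizing (Localization.AtPrime m) ((locD (algebraMap B (Localization.AtPrime m))).obj ν) ∧
          Dual.IsNormalized (Localization.AtPrime m) ((locD (algebraMap B (Localization.AtPrime m))).obj ν) := by
  haveI := isNoetherian_of_proper f
  obtain ⟨c, hc⟩ := exists_low hK
  let P := a.obj K
  have hKc : ∀ i, Coh.IsCoh (DCoh.HD K.obj i) := DualSch.isCoh_HD hK
  have hP : ∀ i, Coh.IsCoh (DCoh.HD P.obj i) := fun i => coh_adjoint f adj K hKc c hc i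
  obtain ⟨c', hc'⟩ := exists_bdd_adjoint f adj K c ((DerivedCategory.isGE_iff _ _).2 fun k hk => hc k hk)
  obtain ⟨U, hU, hxU⟩ := QC.exists_affine_mem x
  haveI := isNoetherianRing_Γ hU
  obtain ⟨ν, ⟨eν⟩, hνf, hνl⟩ := exists_chart_coh hU.fromSpec hP c' (fun i hi => bdd_of_isGE hc' c' rfl i hi)
  obtain ⟨z, hz⟩ := hU.range_fromSpec.ge hxU
  have hzc : IsClosed ({z} : Set (Spec Γ(X, U))) := by
    rw [← hU.fromSpec.isOpenEmbedding.injective.preimage_image {z}, Set.image_singleton, hz]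
    exact hx.preimage hU.fromSpec.continuous
  let m := z.asIdeal
  haveI hm : m.IsMaximal := (PrimeSpectrum.isClosed_singleton_iff_isMaximal z).1 hzc
  let q : Spec (CommRingCat.of (Γ(X, U) ⧸ m)) ⟶ Spec Γ(X, U) :=
    Spec.map (CommRingCat.ofHom (Ideal.Quotient.mk m))
  haveI : IsClosedImmersion q := IsClosedImmersion.spec_of_surjective _ Ideal.Quotient.mk_surjective
  let s := q ≫ hU.fromSpec
  have hqz : ∀ w, q.base w = z := fun w => by
    refine PrimeSpectrum.ext ((hm.eq_of_le (Ideal.IsPrime.ne_top inferInstance) ?_).symm)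
    intro b hb
    show Ideal.Quotient.mk m b ∈ w.asIdeal
    rw [Ideal.Quotient.eq_zero_iff_mem.2 hb]
    exact Ideal.zero_mem _
  have hsr : IsClosed (Set.range s.base) := by
    have h1 : Set.range s.base ⊆ {x} := by
      rintro _ ⟨w, rfl⟩
      show hU.fromSpec.base (q.base w) = x
      rw [hqz]; exact hz
    rcases Set.subset_singleton_iff_eq.1 h1 with h | h <;> rw [h]
    exacts [isClosed_empty, hx]
  haveI : IsPreimmersion s := inferInstanceAs (IsPreimmersion (q ≫ hU.fromSpec))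
  haveI : IsClosedImmersion s := IsClosedImmersion.of_isPreimmersion s hsr
  haveI : DCoh.HasRpush q := DerPush.hasRpush_sch _
  haveI : DCoh.HasRpush s := DerPush.hasRpush_sch _
  haveI := isNoetherian_of_proper s
  have hqq : DCoh.RpushPreservesQCoh q := fun E hE => DQPush.isQCohD_rpush q hE
  have hsq : DCoh.RpushPreservesQCoh s := fun E hE => DQPush.isQCohD_rpush s hE
  haveI := isLeftAdjoint_rpushQ q hqq
  haveI := isLeftAdjoint_rpushQ s hsq
  let aq := (DCoh.RpushQ q hqq).rightAdjoint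
  let adjq : DCoh.RpushQ q hqq ⊣ aq := Adjunction.ofIsLeftAdjoint _
  let as' := (DCoh.RpushQ s hsq).rightAdjoint
  let adjs : DCoh.RpushQ s hsq ⊣ as' := Adjunction.ofIsLeftAdjoint _
  obtain ⟨e₁⟩ := nonempty_adjoint_point hU m hsr adjs P c' (fun i hi => bdd_of_isGE hc' c' rfl i hi) adjq
  -- the composite to the base
  let ψ : CommRingCat.of A ⟶ CommRingCat.of (Γ(X, U) ⧸ m) := Spec.preimage (s ≫ f)
  let g := Spec.map (CommRingCat.ofHom ψ.hom)
  have hg : s ≫ f = g := (Spec.map_preimage (s ≫ f)).symm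
  haveI : IsProper g := by rw [← hg]; infer_instance
  haveI : IsFinite g := IsFinite.iff_isProper_and_isAffineHom.2 ⟨inferInstance, inferInstance⟩
  letI := ψ.hom.toAlgebra
  haveI : Module.Finite A (Γ(X, U) ⧸ m) := (IsFinite.SpecMap_iff (CommRingCat.ofHom ψ.hom)).1 ‹_›
  haveI : DCoh.HasRpush g := DerPush.hasRpush_sch _
  have hgq : DCoh.RpushPreservesQCoh g := fun E hE => DQPush.isQCohD_rpush g hE
  let adjg : DCoh.RpushQ g hgq ⊣ a ⋙ as' :=
    (adjs.comp adj).ofNatIsoLeft (rpushQComp s f g hg hsq hf hgq).symm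
  obtain ⟨e₂⟩ := nonempty_adjoint_tilde ψ.hom adjg (restrictDAdjunction ψ.hom adjg) ω
  obtain ⟨e₃⟩ := nonempty_adjoint_tilde (Ideal.Quotient.mk m) adjq (restrictDAdjunction (Ideal.Quotient.mk m) adjq) ν
  let e₄ : (tildeQ A).obj ω ≅ K := ObjectProperty.isoMk _ eω.symm
  let e₅ : (tildeQ Γ(X, U)).obj ν ≅ (rdQ hU.fromSpec).obj P := ObjectProperty.isoMk _ eν.symm
  let e₆ := (tildeQ (Γ(X, U) ⧸ m)).preimageIso
    (e₂ ≪≫ (a ⋙ as').mapIso e₄ ≪≫ e₁.symm ≪≫ aq.mapIso e₅.symm ≪≫ e₃.symm)
  have hd : Dual.IsDualizing (Γ(X, U) ⧸ m) ((restrictDAdjoint aq).obj ν) :=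
    isDualizing_of_iso e₆ (DualCx.isDualizing_rightAdjoint hω
      (show DRing.restrictD (algebraMap A (Γ(X, U) ⧸ m)) ⊣ _ from restrictDAdjunction ψ.hom adjg))
  refine ⟨Γ(X, U), inferInstance, hU.fromSpec, inferInstance, ν, m, hm, inferInstance, hz, ⟨eν⟩, ?_,
    fun i hi => subsingleton_T_locD m hνl (subsingleton_T_of_adjoint m
      (show DRing.restrictD (algebraMap _ (Γ(X, U) ⧸ m)) ⊣ _ from
        restrictDAdjunction (Ideal.Quotient.mk m) adjq) ?_)⟩
  · exact isDualizing_locD_of_residue m hνf hνl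
      (show DRing.restrictD (algebraMap _ (Γ(X, U) ⧸ m)) ⊣ _ from
        restrictDAdjunction (Ideal.Quotient.mk m) adjq) hd
  · haveI : Module.Finite A ((DualCx.res A (Γ(X, U) ⧸ m)).obj
        (ModuleCat.of _ (Γ(X, U) ⧸ m)) : ModuleCat.{u} A) :=
      Module.Finite.equiv (DualCx.resSelf (A := A) (B := Γ(X, U) ⧸ m)).toLinearEquiv.symm
    haveI : Algebra.IsIntegral A (Γ(X, U) ⧸ m) := inferInstance
    letI : Field (Γ(X, U) ⧸ m) := Ideal.Quotient.field m
    have hker : (RingHom.ker (algebraMap A (Γ(X, U) ⧸ m))) = IsLocalRing.maximalIdeal A :=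
      IsLocalRing.eq_maximalIdeal (Ideal.isMaximal_comap_of_isIntegral_of_isMaximal (⊥ : Ideal (Γ(X, U) ⧸ m)))
    have h0 := DualCx.subsingleton_T_of_killed (L := ω) ((DualCx.res A (Γ(X, U) ⧸ m)).obj
        (ModuleCat.of _ (Γ(X, U) ⧸ m))) (fun a ha w => by
          have ha' : algebraMap A (Γ(X, U) ⧸ m) a = 0 := (hker.ge ha : _)
          show algebraMap A (Γ(X, U) ⧸ m) a • (w : Γ(X, U) ⧸ m) = 0
          rw [ha', zero_smul]) (hn i hi)
    have h1 := (DualCx.isRA_counit (A := A) (B := Γ(X, U) ⧸ m)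
      (show DRing.restrictD (algebraMap A (Γ(X, U) ⧸ m)) ⊣ _ from
        restrictDAdjunction ψ.hom adjg) ω).subsingleton_T _ i h0
    exact (Iso.homCongr (Iso.refl _) ((shiftFunctor _ i).mapIso e₆)).subsingleton_congr.1 h1

end Groth.Agent.DualLocal
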