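import Groth.Agent.DCohShriek.DualizingField
import Groth.Agent.DualGeneric.LocalModel
import Groth.Agent.DualGeneric.Basic
import Groth.Agent.DualLocal.Chart

/-!
Degrees, supports and `(S₂)` of a complex which is normalized dualizing at closed points.
-/

set_option autoImplicit false
set_option backward.isDefEq.respectTransparency false
set_option backward.isDefEq.respectTransparency.types false
set_option linter.style.haveILetI false
set_option linter.unusedSectionVars false
set_option maxHeartbeats 2000000

universe u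

open CategoryTheory CategoryTheory.Limits AlgebraicGeometry TensorProduct

attribute [local instance] HasDerivedCategory.standard

noncomputable section

namespace Groth.Agent.DualLocal

open Groth.Agent.DCohShriek (exists_prime_loc)
open Groth.Agent.DQCoh (RD)
open Groth.Agent.DualCx Groth.Agent.DualFlat Groth.Agent.PerfGen

variable {X : Scheme.{u}}
  [∀ (U V : Scheme.{u}) (j : U ⟶ V) [IsOpenImmersion j], PreservesFiniteLimits (Scheme.Modules.restrictFunctor j)]

/-- normalized dualizing in a chart at every closed point -/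
def HasModel (E : DCoh.D X) : Prop :=
  ∀ z : X, IsClosed ({z} : Set X) →
    ∃ (B : Type u) (_ : CommRing B) (k : Spec (CommRingCat.of B) ⟶ X) (_ : IsOpenImmersion k) (ν : Dual.D B)
      (m : Ideal B) (hm : m.IsMaximal), IsNoetherianRing B ∧ k ⟨m, hm.isPrime⟩ = z ∧
        Nonempty ((RD k).obj E ≅ (DCoh.tildeD (CommRingCat.of B)).obj ν) ∧
          Dual.IsDualizing (Localization.AtPrime m) ((locD (algebraMap B (Localization.AtPrime m))).obj ν) ∧
          Dual.IsNormalized (Localization.AtPrime m) ((locD (algebraMap B (Localization.AtPrime m))).obj ν)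

/-- the degrees of the dualizing complex of a proper scheme over a field -/
theorem stalk_amplitude [CompactSpace X] {E : DCoh.D X} (hE : HasModel E) (d : ℕ) (hd : topologicalKrullDim X ≤ (d : ℕ))
    (i : ℤ) (r : ℕ) (y : Fin (r + 1) → X) (hy : DimChain.IsChainSpec y)
    (hS : Nontrivial ((DCoh.HD E i).presheaf.stalk (y (Fin.last r)))) :
    (r : ℤ) ≤ -i ∧ -(d : ℤ) ≤ i := by
  obtain ⟨z, hz, hzc⟩ := (isClosed_closure (s := ({y 0} : Set X))).exists_closed_singleton ⟨y 0, subset_closure rfl⟩
  obtain ⟨B, _, j, _, ν, m, hm, hnoe, hjm, ⟨eν⟩, hdual, hn⟩ := hE z hzc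
  haveI := hnoe
  have hspec : ∀ t : Fin (r + 1), y t ⤳ z := fun t => by
    induction t using Fin.induction with
    | zero => exact specializes_iff_mem_closure.2 hz
    | succ t ih => exact (hy t).1.trans ih
  have hmem : ∀ t, ∃ q : PrimeSpectrum B, j q = y t := fun t =>
    (hspec t).mem_open j.isOpenEmbedding.isOpen_range ⟨_, hjm⟩
  choose q hq using hmem
  have hlem : ∀ t, (q t).asIdeal ≤ m := fun t => by
    refine (PrimeSpectrum.le_iff_specializes (q t) ⟨m, hm.isPrime⟩).2 (j.isOpenEmbedding.isInducing.specializes_iff.1 ?_)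
    rw [hq t, hjm]
    exact hspec t
  let L := Localization.AtPrime m
  let φ := algebraMap B L
  haveI : IsNoetherianRing L := IsLocalization.isNoetherianRing m.primeCompl L inferInstance
  haveI : Module.Flat B L := IsLocalization.flat L m.primeCompl
  let w := (locD φ).obj ν
  choose p hp using fun t => exists_prime_loc m (q t) (hlem t)
  have hlt : ∀ t : Fin r, p t.succ < p t.castSucc := fun t => by
    have h1 : q t.succ ≤ q t.castSucc := by
      rw [PrimeSpectrum.le_iff_specializes]
      refine j.isOpenEmbedding.isInducing.specializes_iff.1 ?_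
      rw [hq, hq]
      exact (hy t).1
    have h2 : p t.succ ≤ p t.castSucc := by
      intro x hx
      obtain ⟨b, s, rfl⟩ := IsLocalization.exists_mk'_eq m.primeCompl x
      rw [IsLocalization.mk'_mem_iff] at hx ⊢
      have hb : b ∈ (q t.succ).asIdeal := by rw [← hp]; exact hx
      have hb' : b ∈ (p t.castSucc).asIdeal.comap φ := by rw [hp]; exact h1 hb
      exact hb'
    refine lt_of_le_of_ne h2 fun he => (hy t).2 ?_
    rw [← hq, ← hq, show q t.succ = q t.castSucc from PrimeSpectrum.ext (by rw [← hp, ← hp, he])]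
  have hdel : ∀ t : Fin (r + 1), ((t : ℕ) : ℤ) ≤ DualCx.del hdual (p t) := fun t => by
    induction t using Fin.induction with
    | zero =>
      have h1 := DualCx.del_le hdual (show p 0 ≤ IsLocalRing.closedPoint L from
        IsLocalRing.le_maximalIdeal (p 0).isPrime.ne_top)
      rw [DualCx.del_closed hdual hn] at h1
      simpa using h1
    | succ t ih =>
      have h1 := DualCx.del_lt hdual (hlt t)
      simp only [Fin.val_succ, Fin.val_castSucc] at ih ⊢
      push_cast
      omega
  have hvan : ¬ Van w (p (Fin.last r)).asIdeal L i := by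
    rw [DualCx.van_self_iff, not_subsingleton_iff_nontrivial]
    rw [← hq (Fin.last r), DualSch.nontrivial_HD_stalk_iff j eν] at hS
    rw [← not_subsingleton_iff_nontrivial, LocalizedModule.subsingleton_iff] at hS ⊢
    intro hall
    refine hS fun x => ?_
    let g := DualCx.locHD φ ν i
    obtain ⟨c, hc, hcx⟩ := hall (g.inv.hom (DualCx.unit1 φ _ x))
    obtain ⟨b, s, rfl⟩ := IsLocalization.exists_mk'_eq m.primeCompl c
    have hb : b ∉ (q (Fin.last r)).asIdeal := by
      intro hb
      refine hc ((IsLocalization.mk'_mem_iff).2 ?_)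
      have hb' : b ∈ (p (Fin.last r)).asIdeal.comap φ := by rw [hp]; exact hb
      exact hb'
    have h1 : φ b • g.inv.hom (DualCx.unit1 φ _ x) = 0 := by
      rw [← IsLocalization.mk'_spec' L b s, mul_smul, hcx, smul_zero]
    rw [← map_smul, ← DualCx.unit1_smul] at h1
    have h2 : DualCx.unit1 φ _ (b • x) = 0 := by
      have h3 := congrArg g.hom.hom h1
      rwa [map_zero, CategoryTheory.Iso.inv_hom_id_apply] at h3
    obtain ⟨t, ht, htx⟩ := DualCx.exists_smul_eq_zero (φ := φ) m.primeCompl h2
    refine ⟨t * b, fun hmem => ?_, by rw [mul_smul]; exact htx⟩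
    exact ((q (Fin.last r)).isPrime.mem_or_mem hmem).elim (fun h => ht (hlem _ h)) hb
  obtain ⟨p', -, hp'le, h1, h2⟩ := DualCx.exists_of_not_van hdual hvan
  have h3 := hdel (Fin.last r)
  simp only [Fin.val_last] at h3
  refine ⟨by omega, ?_⟩
  have hdimL : ringKrullDim L ≤ (d : ℕ) := by
    rw [IsLocalization.AtPrime.ringKrullDim_eq_height m L]
    refine (Ideal.height_le_ringKrullDim_of_ne_top hm.ne_top).trans ?_
    rw [← PrimeSpectrum.topologicalKrullDim_eq_ringKrullDim]
    exact (Topology.IsInducing.topologicalKrullDim_le j.isOpenEmbedding.isInducing).trans hd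
  have h4 := DualCx.ringKrullDim_quotient_eq hdual hn p'
  have h5 : ((DualCx.del hdual p').toNat : WithBot ℕ∞) ≤ (d : ℕ) :=
    h4 ▸ (ringKrullDim_quotient_le p'.asIdeal).trans hdimL
  have h6 : (DualCx.del hdual p').toNat ≤ d := by exact_mod_cast h5
  omega

/-- **the amplitude of the dualizing complex and the dimension of the supports** -/
theorem amplitude [CompactSpace X] {E : DCoh.D X} (hE : HasModel E) (hcoh : ∀ i, Coh.IsCoh (DCoh.HD E i)) (d : ℕ) (hd : topologicalKrullDim X ≤ (d : ℕ)) :
    (∀ i : ℤ, (i < -(d : ℤ) ∨ 0 < i) → IsZero (DCoh.HD E i)) ∧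
      ∀ (i : ℤ) (n : ℕ), (n : ℤ) = -i →
        topologicalKrullDim {x : X | Nontrivial ((DCoh.HD E i).presheaf.stalk x)} ≤ (n : WithBot ℕ∞) := by
  refine ⟨fun i hi => KFlat.isZero_of_stalks _ fun x => ?_, fun i n hn => iSup_le fun s => ?_⟩
  · by_contra hz
    have hx : Nontrivial ((DCoh.HD E i).presheaf.stalk x) :=
      not_subsingleton_iff_nontrivial.1 ((PerfGen.mem_support_iff _ x).2 hz)
    obtain ⟨h1, h2⟩ := stalk_amplitude hE d hd i 0 (fun _ => x) (fun t => t.elim0) hx
    omega
  · let S := {x : X | Nontrivial ((DCoh.HD E i).presheaf.stalk x)}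
    have hS : IsClosed S := by
      have : S = CohB1.support (DCoh.HD E i) :=
        Set.ext fun x => not_subsingleton_iff_nontrivial.symm
      rw [this]
      exact QC.isClosed_support (hcoh i).2
    have hirr : ∀ t, IsIrreducible (Subtype.val '' (s t : Set S)) := fun t =>
      (s t).isIrreducible.image _ continuous_subtype_val.continuousOn
    have hcl : ∀ t, IsClosed (Subtype.val '' (s t : Set S)) := fun t =>
      hS.isClosedEmbedding_subtypeVal.isClosedMap _ (s t).isClosed
    let y : Fin (s.length + 1) → X := fun t => (hirr t).genericPoint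
    have hy : ∀ t, closure ({y t} : Set X) = Subtype.val '' (s t : Set S) := fun t =>
      (hirr t).closure_genericPoint (hcl t)
    have hchain : DimChain.IsChainSpec y := fun t => by
      have hlt : s t.castSucc < s t.succ := s.step t
      refine ⟨specializes_iff_mem_closure.2 ?_, fun he => ?_⟩
      · rw [hy]
        exact Set.image_mono (SetLike.coe_subset_coe.2 hlt.le) ((hy t.castSucc) ▸ subset_closure rfl)
      · refine hlt.ne (TopologicalSpace.IrreducibleCloseds.ext (Subtype.val_injective.image_injective ?_))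
        rw [← hy, ← hy, he]
    have hlast : y (Fin.last s.length) ∈ S := by
      obtain ⟨w, -, hw⟩ := (hy (Fin.last _)).le (subset_closure rfl)
      rw [← hw]; exact w.2
    obtain ⟨h1, -⟩ := stalk_amplitude hE d hd i s.length y hchain hlast
    exact_mod_cast (show s.length ≤ n by omega)

/-- the model at a closed point -/
theorem exists_model {E : DCoh.D X} (hE : HasModel E) (z : X) (hz : IsClosed ({z} : Set X)) :
    ∃ (L : Type u) (_ : CommRing L) (_ : IsNoetherianRing L) (_ : IsLocalRing L) (w : Dual.D L)
      (π : PrimeSpectrum L → X), Dual.IsDualizing L w ∧ Dual.IsNormalized L w ∧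
        π (IsLocalRing.closedPoint L) = z ∧ (∀ p p', π p ⤳ π p' ↔ p ≤ p') ∧ (∀ y, y ⤳ z → ∃ p, π p = y) ∧
        (∀ p i, Nontrivial ((DCoh.HD E i).presheaf.stalk (π p)) ↔
          p ∈ Module.support L (Dual.HD L w i)) ∧
        Nonempty (X.presheaf.stalk z ≃+* L) := by
  obtain ⟨B, _, j, _, ν, m, hm, hnoe, hjm, ⟨eν⟩, hdual, hn⟩ := hE z hz
  haveI := hnoe
  let L := Localization.AtPrime m
  let φ := algebraMap B L
  haveI : IsNoetherianRing L := IsLocalization.isNoetherianRing m.primeCompl L inferInstance
  haveI : Module.Flat B L := IsLocalization.flat L m.primeCompl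
  let w := (locD φ).obj ν
  let π : PrimeSpectrum L → X := fun p => j (PrimeSpectrum.comap φ p)
  refine ⟨L, inferInstance, inferInstance, inferInstance, w, π, hdual, hn, ?_, fun p p' => ?_, fun y hy => ?_,
    fun p i => ?_, ?_⟩
  · refine (congrArg j (PrimeSpectrum.ext ?_)).trans hjm
    exact Localization.AtPrime.under_maximalIdeal (I := m)
  · refine j.isOpenEmbedding.isInducing.specializes_iff.trans ((PrimeSpectrum.le_iff_specializes _ _).symm.trans ?_)
    refine ⟨fun h x hx => ?_, fun h x hx => h hx⟩
    obtain ⟨b, s, rfl⟩ := IsLocalization.exists_mk'_eq m.primeCompl x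
    rw [IsLocalization.mk'_mem_iff] at hx ⊢
    exact h hx
  · obtain ⟨q, rfl⟩ := hy.mem_open j.isOpenEmbedding.isOpen_range ⟨_, hjm⟩
    rw [← hjm] at hy
    obtain ⟨p, hp⟩ := exists_prime_loc m q
      ((PrimeSpectrum.le_iff_specializes q ⟨m, hm.isPrime⟩).2 (j.isOpenEmbedding.isInducing.specializes_iff.1 hy))
    exact ⟨p, congrArg j (PrimeSpectrum.ext hp)⟩
  · rw [DualSch.nontrivial_HD_stalk_iff j eν, ← Module.mem_support_iff,
      ← DualGeneric.mem_support_of_isLocalizedModule m.primeCompl (TensorProduct.mk B L (Dual.HD B ν i) 1) p,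
      ← ((locHD φ ν i).toLinearEquiv.trans (tens (A := B) L (Dual.HD B ν i))).support_eq]
  · obtain ⟨ε⟩ := DualSch.nonempty_stalk_ringEquiv j (⟨m, hm.isPrime⟩ : PrimeSpectrum B)
    subst hjm
    exact ⟨ε⟩

/-- **`(S₂)` and support of the lowest module** -/
theorem lowest [IsNoetherian X] [∀ (R : CommRingCat.{u}), PreservesFiniteLimits (tilde.functor R)] {E : DCoh.D X}
    (hE : HasModel E) (hD : Dual2.IsDualizingSch X E) (d : ℕ) (hd : topologicalKrullDim X = (d : WithBot ℕ∞)) :
    (∀ x : X, LocCoh.HasSk 2 (X.presheaf.stalk x) ((DCoh.HD E (-(d : ℤ))).presheaf.stalk x)) ∧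
      {x : X | Nontrivial ((DCoh.HD E (-(d : ℤ))).presheaf.stalk x)} =
        ⋃ Z ∈ {Z : Set X | Z ∈ irreducibleComponents X ∧ topologicalKrullDim ↥Z = (d : WithBot ℕ∞)}, Z := by
  obtain ⟨hlow, -⟩ := amplitude hE (DualSch.isCoh_HD hD) d hd.le
  refine ⟨fun x => ?_, ?_⟩
  · obtain ⟨w, hw, hlt, ⟨g⟩⟩ := DualSch.exists_local hD (n := -(d : ℤ)) (fun i hi => hlow i (Or.inl hi)) x
    haveI := hw.isNoetherianRing
    exact FibDepth.hasSk_congr g.symm 2 (DualSch.hasSk_two_lowest hw hlt)
  · ext x
    simp only [Set.mem_setOf_eq, Set.mem_iUnion, exists_prop]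
    constructor
    · intro hx
      obtain ⟨z, hz, hzc⟩ := (isClosed_closure (s := ({x} : Set X))).exists_closed_singleton ⟨x, subset_closure rfl⟩
      obtain ⟨L, _, _, _, w, π, hw, hn, -, hord, hgen, hsupp, -⟩ := exists_model hE z hzc
      obtain ⟨p, rfl⟩ := hgen x (specializes_iff_mem_closure.2 hz)
      have hp := (hsupp p _).1 hx
      have hdim : ringKrullDim L ≤ (d : WithBot ℕ∞) :=
        (DualGeneric.krullDim_le_of_points π hord).trans hd.le
      obtain ⟨e', he'⟩ : ∃ e' : ℕ, ringKrullDim L = (e' : WithBot ℕ∞) := by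
        generalize hr : ringKrullDim L = r at hdim
        match r with
        | ⊥ => exact absurd hr ringKrullDim_ne_bot
        | (m : ℕ∞) =>
          match m with
          | ⊤ => exact absurd (WithBot.coe_le_coe.1 hdim) (by simp)
          | (n : ℕ) => exact ⟨n, rfl⟩
      have hed : e' = d := by
        refine le_antisymm (by exact_mod_cast he'.symm.le.trans hdim) ?_
        have hnt : Nontrivial (DualCx.T w L (-(d : ℤ))) := by
          haveI : Nontrivial (Dual.HD L w (-(d : ℤ))) := by
            by_contra hh
            haveI := not_nontrivial_iff_subsingleton.1 hh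
            rw [Module.support_eq_empty] at hp
            exact hp
          exact (DualCx.homEquiv w _).toEquiv.nontrivial
        have := (DualCx.mem_bounds hw hn (M := L) e'
          (by rw [Module.supportDim_self_eq_ringKrullDim, he']) hnt).1
        omega
      subst hed
      rw [DualCx.support_top hw hn e' he'] at hp
      obtain ⟨q, hq, hqp, hqd⟩ := hp
      let q' : PrimeSpectrum L := ⟨q, hq.1.1⟩
      have hη : ∀ y, y ⤳ π q' → π q' ⤳ y := fun y hy => by
        obtain ⟨r, rfl⟩ := hgen y (hy.trans (((hord q' p).2 hqp).trans (specializes_iff_mem_closure.2 hz)))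
        have hrq : r ≤ q' := (hord r q').1 hy
        exact (hord q' r).2 (fun b hb => hq.2 ⟨r.isPrime, bot_le⟩ hrq hb)
      refine ⟨closure {π q'}, ⟨?_, ?_⟩, ((hord q' p).2 hqp).mem_closure⟩
      · refine irreducibleComponents_eq_maximals_closed X ▸ ⟨⟨isClosed_closure, isIrreducible_singleton.closure⟩, ?_⟩
        rintro C ⟨hCc, hCi⟩ hle
        have h1 : hCi.genericPoint ⤳ π q' := by
          rw [specializes_iff_mem_closure, hCi.closure_genericPoint hCc]
          exact hle (subset_closure rfl)
        intro c hc
        have h2 : hCi.genericPoint ⤳ c := by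
          rw [specializes_iff_mem_closure, hCi.closure_genericPoint hCc]
          exact hc
        exact ((hη _ h1).trans h2).mem_closure
      · refine le_antisymm ((Topology.IsInducing.subtypeVal.topologicalKrullDim_le).trans hd.le) ?_
        rw [← hqd, ringKrullDim_quotient]
        exact DualGeneric.krullDim_le_of_points
          (P := PrimeSpectrum.zeroLocus (R := L) (q : Set L))
          (Y := ↥(closure {π q'} : Set X))
          (fun r => ⟨π r.1, ((hord q' r.1).2 r.2).mem_closure⟩)
          fun r r' => (subtype_specializes_iff _ _).trans (hord r.1 r'.1)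
    · rintro ⟨Z, ⟨hZ, hZd⟩, hxZ⟩
      have hZc : IsClosed Z := isClosed_of_mem_irreducibleComponents Z hZ
      haveI : IrreducibleSpace ↥Z := Subtype.irreducibleSpace hZ.1
      haveI : QuasiSober ↥Z := hZc.isClosedEmbedding_subtypeVal.quasiSober
      obtain ⟨y, hy, hlast⟩ := DualGeneric.exists_chain_space hZd
      let η : X := (y (Fin.last d)).val
      have hηZ : closure ({η} : Set X) = Z := by
        refine le_antisymm (closure_minimal (Set.singleton_subset_iff.2 (y (Fin.last d)).2) hZc) fun c hc => ?_
        have : (⟨c, hc⟩ : ↥Z) ∈ closure {y (Fin.last d)} := by rw [hlast]; trivial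
        rw [closure_subtype, Set.image_singleton] at this
        exact this
      obtain ⟨z, hz, hzc⟩ := hZc.exists_closed_singleton ⟨x, hxZ⟩
      obtain ⟨L, _, _, _, w, π, hw, hn, -, hord, hgen, hsupp, -⟩ := exists_model hE z hzc
      obtain ⟨q, hq⟩ := hgen η (specializes_iff_mem_closure.2 (hηZ.ge hz))
      have hmin : ∀ r ∈ Module.support L L, r ≤ q → r = q := fun r _ hr => by
        refine le_antisymm hr ((hord q r).1 ?_)
        rw [hq, specializes_iff_mem_closure, hηZ]
        refine hZ.2 (y := closure {π r}) isIrreducible_singleton.closure ?_ (subset_closure rfl)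
        rw [← hηZ]
        have := (hord r q).2 hr
        rw [hq] at this
        exact this.closure_subset
      have hsq : q ∈ Module.support L L := by
        rw [Module.support_eq_zeroLocus, Module.annihilator_eq_bot.2 inferInstance]
        exact fun b hb => by rw [(Submodule.mem_bot L).1 hb]; exact q.asIdeal.zero_mem
      have hnv := DualCx.not_van_minimal hw hsq hmin
      rw [DualCx.van_self_iff, not_subsingleton_iff_nontrivial, ← Module.mem_support_iff,
        ← hsupp, hq] at hnv
      have hb := stalk_amplitude hE d hd.le _ d (fun t => (y t).val)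
        (fun t => ⟨(hy t).1.map continuous_subtype_val, fun h => (hy t).2 (Subtype.ext h)⟩) hnv
      have hdeg : -DualCx.del hw q = -(d : ℤ) := by omega
      rw [hdeg] at hnv
      -- spread from the generic point of the component
      have hcl : IsClosed (CohB1.support (DCoh.HD E (-(d : ℤ)))) :=
        QC.isClosed_support (DualSch.isCoh_HD hD _).2
      refine not_subsingleton_iff_nontrivial.1 ?_
      have hsub := closure_minimal (Set.singleton_subset_iff.2
        (show η ∈ CohB1.support _ from not_subsingleton_iff_nontrivial.2 hnv)) hcl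
      exact hsub (hηZ.ge hxZ)

end Groth.Agent.DualLocal
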